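import Cfsg.Agent.Omega.EH3Close.LeadU
import Cfsg.Agent.KFacts.RgdSL
import Cfsg.Agent.Nodes.Unique
import Cfsg.Agent.Mrg.Omega.EH3Close.Roots
import Cfsg.Agent.Nodes.Slope

-- merged: Cfsg.Agent.Omega.EH3Close.RgdLead
section

/-!
# Leading roots in a simply laced root group datum (helper805)

`Fn cs h g c o` : `g` additive, positive and injective on the positive roots, `c ≤ g x ↔ 1 ≤ x o`.
`com` : the commutator relations; `pair` : two leading roots `x ≠ y` with `x o = y o = 0` of an abelian subgroup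
normalised by `Q = ⟨X x : x o ≥ 1⟩` have `⟨x, y⟩ = 1`, or `⟨x, y⟩ = 0` and no `μ` with `μ o ≥ 1`, `⟨μ, x⟩ = ⟨μ, y⟩ = -1`.
-/

set_option autoImplicit false
set_option linter.unusedSectionVars false

namespace Cfsg.Agent.Omega.EH3Close.RgdLead

open CoxeterSystem Cfsg.Agent.ChevalleyStructure.CoxeterGeom Cfsg.Agent.Tits.Roots Cfsg.Agent.Tits.Core
  Cfsg.Agent.Tits.Exchange Cfsg.Agent.Nodes.Reps Cfsg.Agent.Nodes.BNOf Cfsg.Agent.Nodes.StabComb
  Cfsg.Agent.Nodes.Bruhat Cfsg.Agent.Nodes.OppDec Cfsg.Agent.Nodes.PosPair Cfsg.Agent.Nodes.Coroot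
  Cfsg.Agent.KFacts.RgdSL Cfsg.Agent.Omega.EH3Close.LeadU
open scoped commutatorElement

variable {I W Y : Type*} [Fintype I] [DecidableEq I] [Group W] [Group Y] {M : CoxeterMatrix I}
  {cs : CoxeterSystem M W} {A : I → I → ℤ} {h : IsCartan M A} {p : ℕ} {T : Subgroup Y} {n : I → Y}
  {X : (I → ℤ) → Subgroup Y}

/-- the positive roots -/
noncomputable def PF [Finite W] (cs : CoxeterSystem M W) (h : IsCartan M A) : Finset (I → ℤ) :=
  (Nodes.Unique.finite_pos (cs := cs) (h := h)).toFinset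

theorem mem_PF [Finite W] {x : I → ℤ} : x ∈ PF cs h ↔ x ∈ RGD.Pos cs h := by
  rw [PF, Set.Finite.mem_toFinset]

/-- the functional -/
structure Fn (cs : CoxeterSystem M W) (h : IsCartan M A) (g : (I → ℤ) → ℕ) (c : ℕ) (o : I) : Prop where
  pos : ∀ x ∈ RGD.Pos cs h, 0 < g x
  inj : ∀ x ∈ RGD.Pos cs h, ∀ y ∈ RGD.Pos cs h, g x = g y → x = y
  add : ∀ x ∈ RGD.Pos cs h, ∀ y ∈ RGD.Pos cs h, g (x + y) = g x + g y
  cut : ∀ x ∈ RGD.Pos cs h, c ≤ g x ↔ 1 ≤ x o

/-! ### Existence of the functional -/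

/-- base `B` expansions -/
theorem digits {B : ℤ} (hB : 0 < B) (e : I → ℕ) (he : Function.Injective e) {x y : I → ℤ}
    (hx : ∀ i, 0 ≤ x i ∧ x i < B) (hy : ∀ i, 0 ≤ y i ∧ y i < B)
    (hxy : ∑ i, B ^ e i * x i = ∑ i, B ^ e i * y i) : x = y := by
  classical
  by_contra hne
  have h1 : ∃ i, x i ≠ y i := by
    by_contra hcon
    push Not at hcon
    exact hne (funext hcon)
  -- minimal
  obtain ⟨i, hi, hmin⟩ := Finset.exists_min_image (Finset.univ.filter fun i => x i ≠ y i) e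
    (by obtain ⟨i, hi⟩ := h1; exact ⟨i, by simp [hi]⟩)
  have hi' : x i ≠ y i := by simpa using hi
  have h2 : ∑ j, B ^ e j * (x j - y j) = 0 := by
    simp only [mul_sub, Finset.sum_sub_distrib]
    rw [hxy, sub_self]
  rw [← Finset.add_sum_erase _ _ (Finset.mem_univ i)] at h2
  have h3 : B ^ (e i + 1) ∣ ∑ j ∈ Finset.univ.erase i, B ^ e j * (x j - y j) := by
    refine Finset.dvd_sum fun j hj => ?_
    have hji : j ≠ i := (Finset.mem_erase.1 hj).1
    by_cases hj' : x j = y j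
    · rw [hj', sub_self, mul_zero]; exact dvd_zero _
    · have h4 := hmin j (by simp [hj'])
      have h5 : e i ≠ e j := fun h => hji (he h).symm
      exact Dvd.dvd.mul_right (pow_dvd_pow B (by omega)) _
  have h4 : B ^ (e i + 1) ∣ B ^ e i * (x i - y i) := by
    have h5 : B ^ e i * (x i - y i) = -∑ j ∈ Finset.univ.erase i, B ^ e j * (x j - y j) := by linarith
    rw [h5]
    exact (dvd_neg).2 h3
  rw [pow_succ] at h4
  have h5 : B ∣ x i - y i := by
    have : B ^ e i ≠ 0 := pow_ne_zero _ hB.ne'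
    exact (mul_dvd_mul_iff_left this).1 h4
  have h6 : x i - y i = 0 := by
    refine Int.eq_zero_of_abs_lt_dvd h5 ?_
    have := hx i
    have := hy i
    rw [abs_lt]
    omega
  exact hi' (by omega)

theorem exists_fn [Finite W] (o : I) : ∃ g c, Fn cs h g c o := by
  classical
  have hfin := Nodes.Unique.finite_pos (cs := cs) (h := h)
  -- the base
  obtain ⟨B, hB0, hB⟩ : ∃ B : ℤ, 0 < B ∧ ∀ x ∈ RGD.Pos cs h, ∀ i, x i < B := by
    have : ∀ i : I, ∃ b : ℤ, ∀ x ∈ RGD.Pos cs h, x i ≤ b := by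
      intro i
      obtain ⟨b, hb⟩ := (hfin.image fun x : I → ℤ => x i).bddAbove
      exact ⟨b, fun x hx => hb ⟨x, hx, rfl⟩⟩
    choose b hb using this
    refine ⟨1 + ∑ i, |b i|, by positivity, fun x hx i => ?_⟩
    have h1 := hb i x hx
    have h2 : |b i| ≤ ∑ i, |b i| := Finset.single_le_sum (f := fun i => |b i|) (fun _ _ => abs_nonneg _) (Finset.mem_univ i)
    have h3 := le_abs_self (b i)
    omega
  let e : I → ℕ := fun i => (Fintype.equivFin I i : ℕ)
  have he : Function.Injective e := fun i j hij => (Fintype.equivFin I).injective (Fin.ext hij)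
  let D : (I → ℤ) → ℤ := fun x => ∑ i, B ^ e i * x i
  have hD0 : ∀ x ∈ RGD.Pos cs h, 0 ≤ D x := fun x hx =>
    Finset.sum_nonneg fun i _ => mul_nonneg (pow_nonneg hB0.le _) (hx.2 i)
  have hDadd : ∀ x y, D (x + y) = D x + D y := by
    intro x y
    show ∑ i, B ^ e i * (x + y) i = _
    rw [← Finset.sum_add_distrib]
    exact Finset.sum_congr rfl fun i _ => by rw [Pi.add_apply, mul_add]
  have hDinj : ∀ x ∈ RGD.Pos cs h, ∀ y ∈ RGD.Pos cs h, D x = D y → x = y := fun x hx y hy hxy =>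
    digits hB0 e he (fun i => ⟨hx.2 i, hB x hx i⟩) (fun i => ⟨hy.2 i, hB y hy i⟩) hxy
  have hDpos : ∀ x ∈ RGD.Pos cs h, 0 < D x := by
    intro x hx
    rcases (hD0 x hx).eq_or_lt with h1 | h1
    · exfalso
      apply hx.1.ne_zero
      exact digits hB0 e he (fun i => ⟨hx.2 i, hB x hx i⟩) (y := 0) (fun i => ⟨le_rfl, hB0⟩)
        (h1.symm.trans (by simp))
    · exact h1
  obtain ⟨K, hK0, hK⟩ : ∃ K : ℤ, 0 < K ∧ ∀ x ∈ RGD.Pos cs h, D x < K := by
    obtain ⟨b, hb⟩ := (hfin.image D).bddAbove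
    refine ⟨1 + |b|, by positivity, fun x hx => ?_⟩
    have h1 := hb ⟨x, hx, rfl⟩
    have h3 := le_abs_self b
    omega
  have hnn : ∀ x ∈ RGD.Pos cs h, 0 < K * x o + D x := fun x hx =>
    add_pos_of_nonneg_of_pos (mul_nonneg hK0.le (hx.2 o)) (hDpos x hx)
  refine ⟨fun x => (K * x o + D x).toNat, K.toNat, ?_, ?_, ?_, ?_⟩
  · intro x hx
    have := hnn x hx
    omega
  · intro x hx y hy hxy
    have h1 := hnn x hx
    have h2 := hnn y hy
    have h3 : K * x o + D x = K * y o + D y := by omega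
    have h4 : x o = y o := by
      by_contra hne
      have h5 := hK x hx
      have h6 := hK y hy
      have h7 := hD0 x hx
      have h8 := hD0 y hy
      rcases lt_or_gt_of_ne hne with h9 | h9
      · have h10 : K * (x o + 1) ≤ K * y o := mul_le_mul_of_nonneg_left h9 hK0.le
        rw [mul_add, mul_one] at h10
        omega
      · have h10 : K * (y o + 1) ≤ K * x o := mul_le_mul_of_nonneg_left h9 hK0.le
        rw [mul_add, mul_one] at h10
        omega
    rw [h4] at h3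
    exact hDinj x hx y hy (by omega)
  · intro x hx y hy
    have h1 := hnn x hx
    have h2 := hnn y hy
    have h3 := hDadd x y
    have h4 : K * (x + y) o = K * x o + K * y o := by rw [Pi.add_apply, mul_add]
    show (K * (x + y) o + D (x + y)).toNat = _
    rw [h3, h4]
    omega
  · intro x hx
    have h1 := hnn x hx
    have h5 := hK x hx
    have h7 := hD0 x hx
    constructor
    · intro h9
      by_contra hcon
      have h10 : x o = 0 := le_antisymm (by omega) (hx.2 o)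
      have h11 : K ≤ K * x o + D x := by
        have h12 : K.toNat ≤ (K * x o + D x).toNat := h9
        omega
      rw [h10, mul_zero] at h11
      omega
    · intro h9
      have h10 : K * 1 ≤ K * x o := mul_le_mul_of_nonneg_left h9 hK0.le
      rw [mul_one] at h10
      show K.toNat ≤ (K * x o + D x).toNat
      omega

/-! ### The commutator relations -/

variable (R : RGD cs h p T n X) (hs : SL cs h) {g : (I → ℤ) → ℕ} {c : ℕ} {o : I} (fn : Fn cs h g c o)

include R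

theorem add_mem_pos {x y : I → ℤ} (hx : x ∈ RGD.Pos cs h) (hy : y ∈ RGD.Pos cs h) (hr : IsRoot cs h (x + y)) :
    x + y ∈ RGD.Pos cs h := ⟨hr, add_nonneg hx.2 hy.2⟩

include hs fn

theorem com [Finite W] (hab : ∀ x, IsRoot cs h x → ∀ a ∈ X x, ∀ b ∈ X x, a * b = b * a) : Com (PF cs h) X g where
  pos x hx := fn.pos x (mem_PF.1 hx)
  inj x hx y hy := fn.inj x (mem_PF.1 hx) y (mem_PF.1 hy)
  comm := by
    intro x hx y hy a ha b hb
    rw [mem_PF] at hx hy
    rcases hs.cases hx.1 hy.1 with ⟨rfl, -⟩ | ⟨hxy, -⟩ | ⟨hxy, hxy', h1, h2⟩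
    · rw [commutatorElement_eq_one_iff_mul_comm.2 (hab x hx.1 a ha b hb)]
      exact one_mem _
    · exfalso
      have := hx.2
      rw [hxy] at this
      exact hy.1.not_pos_neg hy.2 (neg_nonneg.1 this)
    · have hm := R.comm x y hx.1 hy.1 hxy hxy' a ha b hb
      by_cases hc : cpr cs h x y = -1
      · have h3 := btw_le_of (X := X) (fun z hz => hs.btwn_eq hx.1 hy.1 hc hz) hm
        have h4 := add_mem_pos R hx hy (isRoot_add hx.1 hy.1 hc)
        exact le_U (mem_PF.2 h4) (le_of_eq (fn.add x hx y hy).symm) h3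
      · rw [btw_eq_bot (fun z => hs.not_btwn hx.1 hy.1 hxy (by omega) z), Subgroup.mem_bot] at hm
        rw [hm]
        exact one_mem _

/-- independence -/
theorem ind [Finite W] {x : I → ℤ} (hx : x ∈ RGD.Pos cs h) {a : Y} (ha : a ∈ X x) (ha' : a ∈ U (PF cs h) X g (g x + 1)) :
    a = 1 := by
  have h1 : Nodes.Unique.Closed cs h ({x} : Set (I → ℤ)) := by
    rintro _ rfl _ rfl z hz
    exact Nodes.Unique.btwn_self hx.1 hz
  have h2 : Nodes.Unique.Closed cs h {y | y ∈ RGD.Pos cs h ∧ g x + 1 ≤ g y} := by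
    rintro y ⟨hy, hyg⟩ z ⟨hz, hzg⟩ w hw
    rcases hs.cases hy.1 hz.1 with ⟨rfl, -⟩ | ⟨hxy, -⟩ | ⟨hxy, hxy', -, -⟩
    · have := Nodes.Unique.btwn_self hy.1 hw
      subst this
      exact ⟨hy, hyg⟩
    · exfalso
      have := hy.2
      rw [hxy] at this
      exact hz.1.not_pos_neg hz.2 (neg_nonneg.1 this)
    · have h3 := hs.btwn hy.1 hz.1 hxy hxy' hw
      have h4 : w ∈ RGD.Pos cs h := by
        have := add_mem_pos R hy hz (h3.2 ▸ hw.1)
        rwa [← h3.2] at this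
      refine ⟨h4, ?_⟩
      rw [h3.2, fn.add y hy z hz]
      omega
  have h3 := Nodes.Unique.inf_eq R (S := {x}) (S' := {y | y ∈ RGD.Pos cs h ∧ g x + 1 ≤ g y})
    (Set.singleton_subset_iff.2 hx) (fun _ hy => hy.1) h1 h2
  have h4 : a ∈ RGD.Sup X {x} ⊓ RGD.Sup X {y | y ∈ RGD.Pos cs h ∧ g x + 1 ≤ g y} := by
    refine ⟨RGD.le_Sup (Set.mem_singleton x) ha, ?_⟩
    have h5 : U (PF cs h) X g (g x + 1) ≤ RGD.Sup X {y | y ∈ RGD.Pos cs h ∧ g x + 1 ≤ g y} :=
      U_le fun y hy hg => RGD.le_Sup (S := {y | y ∈ RGD.Pos cs h ∧ g x + 1 ≤ g y}) ⟨mem_PF.1 hy, hg⟩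
    exact h5 ha'
  have h5 : ({x} : Set (I → ℤ)) ∩ {y | y ∈ RGD.Pos cs h ∧ g x + 1 ≤ g y} = ∅ := by
    ext y
    simp only [Set.mem_inter_iff, Set.mem_singleton_iff, Set.mem_ofPred_eq, Set.mem_empty_iff_false, iff_false]
    rintro ⟨rfl, -, h6⟩
    omega
  rw [h3, h5] at h4
  have h6 : RGD.Sup X (∅ : Set (I → ℤ)) = ⊥ := by
    rw [eq_bot_iff]
    exact RGD.Sup_le (fun z hz => absurd hz (by simp))
  rw [h6] at h4
  exact Subgroup.mem_bot.1 h4

theorem comm_not_mem [Finite W] {x y : I → ℤ} (hx : x ∈ RGD.Pos cs h) (hy : y ∈ RGD.Pos cs h)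
    (hc : cpr cs h x y = -1) {a b : Y} (ha : a ∈ X x) (ha1 : a ≠ 1) (hb : b ∈ X y) (hb1 : b ≠ 1) :
    ⁅a, b⁆ ∉ U (PF cs h) X g (g (x + y) + 1) := by
  intro hm
  have hA := hs.a2 hx.1 hy.1 hc
  exact A2.comm_ne_one R hA ha ha1 hb hb1
    (ind R hs fn (add_mem_pos R hx hy hA.rxy) (A2.comm_mem R hA ha hb) hm)

/-- **Two leading roots.** -/
theorem pair [Finite W] (hab : ∀ x, IsRoot cs h x → ∀ a ∈ X x, ∀ b ∈ X x, a * b = b * a)
    (hne : ∀ x, IsRoot cs h x → X x ≠ ⊥) {V : Subgroup Y} (hV : ∀ a ∈ V, ∀ b ∈ V, a * b = b * a)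
    (hn : ∀ q ∈ U (PF cs h) X g c, ∀ v ∈ V, q * v * q⁻¹ ∈ V) {x y : I → ℤ} (hx : x ∈ Psi (PF cs h) X g V c)
    (hy : y ∈ Psi (PF cs h) X g V c) (hxy : x ≠ y) :
    cpr cs h x y = 1 ∨ (cpr cs h x y = 0 ∧
      ∀ μ ∈ RGD.Pos cs h, 1 ≤ μ o → cpr cs h μ x = -1 → cpr cs h μ y ≠ -1) := by
  have C := com R hs fn hab
  rw [mem_Psi] at hx hy
  obtain ⟨hx, hxc, lx⟩ := hx
  obtain ⟨hy, hyc, ly⟩ := hy
  rw [mem_PF] at hx hy
  rcases hs.cases hx.1 hy.1 with ⟨h0, -⟩ | ⟨h0, -⟩ | ⟨-, hxy', h1, h2⟩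
  · exact absurd h0 hxy
  · exfalso
    have := hx.2
    rw [h0] at this
    exact hy.1.not_pos_neg hy.2 (neg_nonneg.1 this)
  · have h3 : cpr cs h x y = -1 ∨ cpr cs h x y = 0 ∨ cpr cs h x y = 1 := by omega
    rcases h3 with h3 | h3 | h3
    · exfalso
      obtain ⟨u, hu, hu1, hu2⟩ := lx
      obtain ⟨u', hu', hu1', hu2'⟩ := ly
      obtain ⟨a, ha, w, hw, rfl⟩ := C.exists_mul (mem_PF.2 hx) hu1
      obtain ⟨b, hb, w', hw', rfl⟩ := C.exists_mul (mem_PF.2 hy) hu1'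
      have ha1 : a ≠ 1 := by
        rintro rfl
        rw [one_mul] at hu2
        exact hu2 hw
      have hb1 : b ≠ 1 := by
        rintro rfl
        rw [one_mul] at hu2'
        exact hu2' hw'
      refine comm_not_mem R hs fn hx hy h3 ha ha1 hb hb1 ?_
      rw [fn.add x hx y hy]
      refine C.comm_lead (le_U (mem_PF.2 hx) le_rfl ha) (le_U (mem_PF.2 hy) le_rfl hb) hw hw' ?_
      rw [commutatorElement_eq_one_iff_mul_comm.2 (hV _ hu _ hu')]
      exact one_mem _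
    · right
      refine ⟨h3, fun μ hμ hμo hc1 hc2 => ?_⟩
      have hA := hs.a2 hμ.1 hx.1 hc1
      have hν := add_mem_pos R hμ hx hA.rxy
      have hc3 : cpr cs h (μ + x) y = -1 := by
        rw [cpr_add cs h _ _ hy.1, hc2, h3]; norm_num
      obtain ⟨v, hv, hv1⟩ : ∃ v ∈ X μ, v ≠ 1 := by
        by_contra hcon
        push Not at hcon
        exact hne μ hμ.1 ((Subgroup.eq_bot_iff_forall _).2 hcon)
      refine C.not_pair hV hn (mem_PF.2 hx) (mem_PF.2 hy) (mem_PF.2 hμ) (ν := μ + x) (ξ := μ + x + y) (mem_PF.2 hν)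
        ((fn.cut μ hμ).2 hμo) (fn.add μ hμ x hx) (fn.add _ hν y hy) hv lx ly ?_ ?_
      · rintro a ha ha1 d hd w hw e rfl
        rw [one_mul] at e
        apply comm_not_mem R hs fn hμ hx hc1 hv hv1 ha ha1
        rw [e]
        exact hw
      · intro b hb hb1 d hd hd1
        exact comm_not_mem R hs fn hν hy hc3 hd hd1 hb hb1
    · exact Or.inl h3

end Cfsg.Agent.Omega.EH3Close.RgdLead

end

-- merged: Cfsg.Agent.Mrg.Omega.EH3Close.CThree.Table
section

/-!
# The root system `C₃` in the coordinates of the simple roots: roots, Cartan numbers, roots between two roots (helper616)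
-/

set_option autoImplicit false
set_option linter.unusedSectionVars false
set_option Elab.async false

namespace Cfsg.Agent.Omega.EH3Close.CThree

open CoxeterSystem Cfsg.Agent.ChevalleyStructure.CoxeterGeom Cfsg.Agent.Tits.Roots Cfsg.Agent.Tits.Core
  Cfsg.Agent.Tits.Exchange Cfsg.Agent.Nodes.Reps Cfsg.Agent.Nodes.BNOf Cfsg.Agent.Nodes.StabComb
  Cfsg.Agent.Nodes.Bruhat Cfsg.Agent.Nodes.OppDec Cfsg.Agent.Nodes.PosPair Cfsg.Agent.Nodes.Coroot
  Cfsg.Agent.KFacts.RgdSL Cfsg.Agent.Omega.EH3Close.LeadU Cfsg.Agent.Omega.EH3Close.RgdLead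
  Cfsg.Agent.Omega.EH3Close.Roots

/-- all roots -/
def AL : List (Fin 3 → ℤ) := LC3 ++ LC3.map fun x => -x

/-- the long roots -/
def LL : List (Fin 3 → ℤ) := [![0, 0, 1], ![0, 2, 1], ![2, 2, 1], ![0, 0, -1], ![0, -2, -1], ![-2, -2, -1]]

/-- long -/
def lg (x : Fin 3 → ℤ) : Bool := LL.contains x

/-- twice the inner product -/
def dt (x y : Fin 3 → ℤ) : ℤ :=
  x 0 * y 0 + (x 1 - x 0) * (y 1 - y 0) + (2 * x 2 - x 1) * (2 * y 2 - y 1)

/-- the Cartan numbers -/
def cc (x y : Fin 3 → ℤ) : ℤ := 2 * dt x y / dt y y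

/-- cross product -/
def cr (x y : Fin 3 → ℤ) : Fin 3 → ℤ := ![x 1 * y 2 - x 2 * y 1, x 2 * y 0 - x 0 * y 2, x 0 * y 1 - x 1 * y 0]

/-- `z` in the cone of `x`, `y` -/
def bt (x y z : Fin 3 → ℤ) : Bool :=
  decide ((∀ k, (cr z y k).sign = (cr x y k).sign) ∧ (∀ k, (cr x z k).sign = (cr x y k).sign) ∧
    z 0 * cr x y 0 + z 1 * cr x y 1 + z 2 * cr x y 2 = 0)

theorem cr_eq (x y : Fin 3 → ℤ) (k : Fin 3) : cr x y k = x (k + 1) * y (k + 2) - x (k + 2) * y (k + 1) := by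
  fin_cases k <;> rfl

variable {W Y : Type*} [Group W] [Group Y] {cs : CoxeterSystem (CoxeterMatrix.B 3) W}
  {h : IsCartan (CoxeterMatrix.B 3) AC3}

theorem mem_AL_of {x : Fin 3 → ℤ} (hx : x ∈ RC3 ∨ -x ∈ RC3) : x ∈ AL := by
  rw [AL, List.mem_append, List.mem_map]
  rcases hx with hx | hx
  · exact Or.inl (List.mem_toFinset.1 hx)
  · exact Or.inr ⟨-x, List.mem_toFinset.1 hx, neg_neg x⟩

theorem mem_AL {x : Fin 3 → ℤ} (hx : IsRoot cs h x) : x ∈ AL := by
  obtain ⟨w, i, rfl⟩ := hx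
  exact mem_AL_of (posRoots_C3.rep_mem h cs w _ (posRoots_C3.simple_mem i))

theorem root_refl (i : Fin 3) {x : Fin 3 → ℤ} (hx : IsRoot cs h x) : IsRoot cs h (refl AC3 i x) := by
  have := hx.act (cs.simple i)
  rwa [rep_simple] at this

theorem root_LC3 : ∀ x ∈ LC3, IsRoot cs h x := by
  have h0 : IsRoot cs h ![1, 0, 0] := by
    have := isRoot_sr cs h 0
    rwa [show (sr 0 : Fin 3 → ℤ) = ![1, 0, 0] from by decide +kernel] at this
  have h1 : IsRoot cs h ![0, 1, 0] := by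
    have := isRoot_sr cs h 1
    rwa [show (sr 1 : Fin 3 → ℤ) = ![0, 1, 0] from by decide +kernel] at this
  have h2 : IsRoot cs h ![0, 0, 1] := by
    have := isRoot_sr cs h 2
    rwa [show (sr 2 : Fin 3 → ℤ) = ![0, 0, 1] from by decide +kernel] at this
  have h3 : IsRoot cs h ![0, 1, 1] := by
    have := root_refl 2 h1
    rwa [show refl AC3 2 ![0, 1, 0] = ![0, 1, 1] from by decide +kernel] at this
  have h4 : IsRoot cs h ![1, 1, 0] := by
    have := root_refl 0 h1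
    rwa [show refl AC3 0 ![0, 1, 0] = ![1, 1, 0] from by decide +kernel] at this
  have h5 : IsRoot cs h ![0, 2, 1] := by
    have := root_refl 1 h2
    rwa [show refl AC3 1 ![0, 0, 1] = ![0, 2, 1] from by decide +kernel] at this
  have h6 : IsRoot cs h ![1, 1, 1] := by
    have := root_refl 2 h4
    rwa [show refl AC3 2 ![1, 1, 0] = ![1, 1, 1] from by decide +kernel] at this
  have h7 : IsRoot cs h ![1, 2, 1] := by
    have := root_refl 1 h6
    rwa [show refl AC3 1 ![1, 1, 1] = ![1, 2, 1] from by decide +kernel] at this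
  have h8 : IsRoot cs h ![2, 2, 1] := by
    have := root_refl 0 h5
    rwa [show refl AC3 0 ![0, 2, 1] = ![2, 2, 1] from by decide +kernel] at this
  intro x hx
  simp only [LC3, List.mem_cons, List.not_mem_nil, or_false] at hx
  rcases hx with rfl | rfl | rfl | rfl | rfl | rfl | rfl | rfl | rfl <;> assumption

theorem isRoot_iff {x : Fin 3 → ℤ} : IsRoot cs h x ↔ x ∈ AL := by
  refine ⟨mem_AL, fun hx => ?_⟩
  rw [AL, List.mem_append, List.mem_map] at hx
  rcases hx with hx | ⟨y, hy, rfl⟩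
  · exact root_LC3 x hx
  · exact (root_LC3 y hy).neg

theorem mem_Pos_iff {x : Fin 3 → ℤ} : x ∈ RGD.Pos cs h ↔ x ∈ LC3 := by
  constructor
  · rintro ⟨hx, h0⟩
    have h1 : ∀ x ∈ AL, (∀ i, 0 ≤ x i) → x ∈ LC3 := by decide +kernel
    exact h1 x (mem_AL hx) h0
  · intro hx
    refine ⟨root_LC3 x hx, ?_⟩
    have h1 : ∀ x ∈ LC3, ∀ i, 0 ≤ x i := by decide +kernel
    exact h1 x hx

/-- the length is invariant -/
theorem lg_rep (w : W) : ∀ x ∈ AL, rep cs h w x ∈ AL ∧ lg (rep cs h w x) = lg x := by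
  have key : ∀ x ∈ AL, ∀ i, refl AC3 i x ∈ AL ∧ lg (refl AC3 i x) = lg x := by decide +kernel
  refine cs.simple_induction_left (p := fun w => ∀ x ∈ AL, rep cs h w x ∈ AL ∧ lg (rep cs h w x) = lg x) w ?_ ?_
  · intro x hx
    rw [map_one, Module.End.one_apply]
    exact ⟨hx, rfl⟩
  · intro w i ih x hx
    obtain ⟨h1, h2⟩ := ih x hx
    rw [rep_mul_apply, rep_simple]
    exact ⟨(key _ h1 i).1, (key _ h1 i).2.trans h2⟩

/-- the Cartan numbers -/
theorem cpr_eq [Finite W] {x y : Fin 3 → ℤ} (hx : IsRoot cs h x) (hy : IsRoot cs h y) : cpr cs h x y = cc x y := by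
  have key : ∀ x ∈ AL, ∀ y ∈ AL, ∀ i, cc (refl AC3 i x) (refl AC3 i y) = cc x y := by decide +kernel
  have key2 : ∀ x ∈ AL, ∀ i, pairing AC3 i x = cc x (sr i) := by decide +kernel
  obtain ⟨w, i, rfl⟩ := hy
  have h1 : ∀ w : W, ∀ x ∈ AL, cc (rep cs h w x) (rep cs h w (sr i)) = cc x (sr i) := by
    intro w
    refine cs.simple_induction_left (p := fun w => ∀ x ∈ AL, cc (rep cs h w x) (rep cs h w (sr i)) = cc x (sr i)) w
      ?_ ?_
    · intro x _
      rw [map_one, Module.End.one_apply, Module.End.one_apply]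
    · intro w j ih x hx'
      rw [rep_mul_apply, rep_mul_apply, rep_simple, key _ (lg_rep w x hx').1 _
        (lg_rep w _ (mem_AL (isRoot_sr cs h i))).1, ih x hx']
  rw [cpr_rep_sr, key2 _ (mem_AL (hx.act _))]
  have := h1 w _ (mem_AL (hx.act w⁻¹))
  rw [rep_apply_inv] at this
  exact this.symm

theorem sign_eq_of_mul {m a u v : ℤ} (hm : 0 < m) (ha : 0 < a) (he : m * u = a * v) : u.sign = v.sign := by
  have h1 := congrArg Int.sign he
  rwa [Int.sign_mul, Int.sign_mul, Int.sign_eq_one_of_pos hm, Int.sign_eq_one_of_pos ha, one_mul, one_mul] at h1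

theorem bt_of_btwn {x y z : Fin 3 → ℤ} (hz : Btwn cs h x y z) : z ∈ AL ∧ bt x y z = true := by
  obtain ⟨hz, m, a, b, hm, ha, hb, he⟩ := hz
  refine ⟨mem_AL hz, ?_⟩
  have e : ∀ k, m * z k = a * x k + b * y k := by
    intro k
    have := congrFun he k
    simpa using this
  rw [bt, decide_eq_true_eq]
  refine ⟨fun k => ?_, fun k => ?_, ?_⟩
  · refine sign_eq_of_mul hm ha ?_
    rw [cr_eq, cr_eq]
    linear_combination y (k + 2) * e (k + 1) - y (k + 1) * e (k + 2)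
  · refine sign_eq_of_mul hm hb ?_
    rw [cr_eq, cr_eq]
    linear_combination x (k + 1) * e (k + 2) - x (k + 2) * e (k + 1)
  · have h1 : m * (z 0 * cr x y 0 + z 1 * cr x y 1 + z 2 * cr x y 2) = 0 := by
      show m * (z 0 * (x 1 * y 2 - x 2 * y 1) + z 1 * (x 2 * y 0 - x 0 * y 2) + z 2 * (x 0 * y 1 - x 1 * y 0)) = 0
      linear_combination (x 1 * y 2 - x 2 * y 1) * e 0 + (x 2 * y 0 - x 0 * y 2) * e 1 + (x 0 * y 1 - x 1 * y 0) * e 2
    exact (mul_eq_zero.1 h1).resolve_left hm.ne'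

/-- the table for positive roots -/
theorem tab {x y z : Fin 3 → ℤ} (hx : x ∈ RGD.Pos cs h) (hy : y ∈ RGD.Pos cs h) (hxy : x ≠ y)
    (hz : Btwn cs h x y z) : (z = x + y ∨ (z = x + y + y ∧ x + y ∈ LC3) ∨ (z = x + (x + y) ∧ x + y ∈ LC3)) ∨
      (z + z = x + y ∧ lg x = true ∧ lg y = true ∧ lg z = false ∧ ∀ z' ∈ AL, bt x y z' = true → z' = z) := by
  have key : ∀ x ∈ LC3, ∀ y ∈ LC3, x ≠ y → ∀ z ∈ AL, bt x y z = true →
      (z = x + y ∨ (z = x + y + y ∧ x + y ∈ LC3) ∨ (z = x + (x + y) ∧ x + y ∈ LC3)) ∨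
      (z + z = x + y ∧ lg x = true ∧ lg y = true ∧ lg z = false ∧ ∀ z' ∈ AL, bt x y z' = true → z' = z) := by
    decide +kernel
  obtain ⟨h1, h2⟩ := bt_of_btwn hz
  exact key x (mem_Pos_iff.1 hx) y (mem_Pos_iff.1 hy) hxy z h1 h2

/-- check for an `A₂`-plane -/
def a2c (x y : Fin 3 → ℤ) : Bool :=
  AL.contains x && AL.contains y && decide (cc x y = -1) && decide (cc y x = -1) &&
  AL.all fun z => (!bt x y z || decide (z = x + y)) && !bt (-x) y z && (!bt (-x) (x + y) z || decide (z = y)) &&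
    (!bt (-y) (x + y) z || decide (z = x)) && !bt (x + y) y z && !bt (x + y) x z

theorem a2_of [Finite W] {x y : Fin 3 → ℤ} (hc : a2c x y = true) : A2 cs h x y := by
  simp only [a2c, Bool.and_eq_true, List.contains_iff_mem, decide_eq_true_eq, List.all_eq_true, Bool.or_eq_true,
    Bool.not_eq_true'] at hc
  obtain ⟨⟨⟨⟨h1, h2⟩, h3⟩, h4⟩, h5⟩ := hc
  have r1 : IsRoot cs h x := isRoot_iff.2 h1
  have r2 : IsRoot cs h y := isRoot_iff.2 h2
  refine ⟨r1, r2, (cpr_eq r1 r2).trans h3, (cpr_eq r2 r1).trans h4, ?_, ?_, ?_, ?_, ?_, ?_⟩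
  · intro z hz
    obtain ⟨m1, m2⟩ := bt_of_btwn hz
    exact (h5 z m1).1.1.1.1.1.resolve_left (by simp [m2])
  · intro z hz
    obtain ⟨m1, m2⟩ := bt_of_btwn hz
    exact absurd (h5 z m1).1.1.1.1.2 (by simp [m2])
  · intro z hz
    obtain ⟨m1, m2⟩ := bt_of_btwn hz
    exact (h5 z m1).1.1.1.2.resolve_left (by simp [m2])
  · intro z hz
    obtain ⟨m1, m2⟩ := bt_of_btwn hz
    exact (h5 z m1).1.1.2.resolve_left (by simp [m2])
  · intro z hz
    obtain ⟨m1, m2⟩ := bt_of_btwn hz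
    exact absurd (h5 z m1).1.2 (by simp [m2])
  · intro z hz
    obtain ⟨m1, m2⟩ := bt_of_btwn hz
    exact absurd (h5 z m1).2 (by simp [m2])

/-- every short root is in an `A₂`-plane -/
theorem exists_a2 [Finite W] {y : Fin 3 → ℤ} (hy : IsRoot cs h y) (hs : lg y = false) : ∃ x, A2 cs h x y := by
  have key : ∀ y ∈ AL, lg y = false → ∃ x ∈ AL, a2c x y = true := by decide +kernel
  obtain ⟨x, -, hx⟩ := key y (mem_AL hy) hs
  exact ⟨x, a2_of hx⟩

/-- `m` long, `x` short, `m + x` short, `m + 2 x` long; positive -/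
structure C2 (cs : CoxeterSystem (CoxeterMatrix.B 3) W) (h : IsCartan (CoxeterMatrix.B 3) AC3) (m x : Fin 3 → ℤ) :
    Prop where
  pm : m ∈ RGD.Pos cs h
  px : x ∈ RGD.Pos cs h
  p1 : m + x ∈ RGD.Pos cs h
  p2 : m + x + x ∈ RGD.Pos cs h
  lm : lg m = true
  lx : lg x = false
  l1 : lg (m + x) = false
  l2 : lg (m + x + x) = true
  cm : cpr cs h m x = -2
  b1 : ∀ z, Btwn cs h m x z → z = m + x ∨ z = m + x + x
  b2 : ∀ z, ¬ Btwn cs h (-x) m z
  b3 : ∀ z, ¬ Btwn cs h x (m + x + x) z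
  b4 : ∀ z, ¬ Btwn cs h m (m + x) z
  b5 : ∀ z, Btwn cs h x (m + x) z → z = m + x + x
  b6 : ∀ z, ¬ Btwn cs h (m + x) (m + x + x) z

/-- check -/
def c2c (m x : Fin 3 → ℤ) : Bool :=
  LC3.contains m && LC3.contains x && LC3.contains (m + x) && LC3.contains (m + x + x) && lg m && !lg x &&
    !lg (m + x) && lg (m + x + x) && decide (cc m x = -2) &&
  AL.all fun z => (!bt m x z || decide (z = m + x ∨ z = m + x + x)) && !bt (-x) m z && !bt x (m + x + x) z &&
    !bt m (m + x) z && (!bt x (m + x) z || decide (z = m + x + x)) && !bt (m + x) (m + x + x) z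

theorem c2_of [Finite W] {m x : Fin 3 → ℤ} (hc : c2c m x = true) : C2 cs h m x := by
  simp only [c2c, Bool.and_eq_true, List.contains_iff_mem, decide_eq_true_eq, List.all_eq_true, Bool.or_eq_true,
    Bool.not_eq_true'] at hc
  obtain ⟨⟨⟨⟨⟨⟨⟨⟨⟨h1, h2⟩, h3⟩, h4⟩, h5⟩, h6⟩, h7⟩, h8⟩, h9⟩, h10⟩ := hc
  have r1 : m ∈ RGD.Pos cs h := mem_Pos_iff.2 h1
  have r2 : x ∈ RGD.Pos cs h := mem_Pos_iff.2 h2
  refine ⟨r1, r2, mem_Pos_iff.2 h3, mem_Pos_iff.2 h4, h5, h6, h7, h8, (cpr_eq r1.1 r2.1).trans h9, ?_, ?_, ?_, ?_,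
    ?_, ?_⟩
  · intro z hz
    obtain ⟨m1, m2⟩ := bt_of_btwn hz
    exact (h10 z m1).1.1.1.1.1.resolve_left (by simp [m2])
  · intro z hz
    obtain ⟨m1, m2⟩ := bt_of_btwn hz
    exact absurd (h10 z m1).1.1.1.1.2 (by simp [m2])
  · intro z hz
    obtain ⟨m1, m2⟩ := bt_of_btwn hz
    exact absurd (h10 z m1).1.1.1.2 (by simp [m2])
  · intro z hz
    obtain ⟨m1, m2⟩ := bt_of_btwn hz
    exact absurd (h10 z m1).1.1.2 (by simp [m2])
  · intro z hz
    obtain ⟨m1, m2⟩ := bt_of_btwn hz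
    exact (h10 z m1).1.2.resolve_left (by simp [m2])
  · intro z hz
    obtain ⟨m1, m2⟩ := bt_of_btwn hz
    exact absurd (h10 z m1).2 (by simp [m2])

end Cfsg.Agent.Omega.EH3Close.CThree

end

-- merged: Cfsg.Agent.Mrg.Omega.EH3Close.CThree.Short
section

section


/-!
# The row `C₃(4,4,2)`: the torus on the root groups (helper616)

`card_X` : the long root groups have order `2`, the short ones order `4`; `tor_long`, `tor_short`; `comm_self`,
`long_orth`.
-/

set_option autoImplicit false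
set_option linter.unusedSectionVars false

namespace Cfsg.Agent.Omega.EH3Close.CThree

open CoxeterSystem Cfsg.Agent.ChevalleyStructure.CoxeterGeom Cfsg.Agent.Tits.Roots Cfsg.Agent.Tits.Core
  Cfsg.Agent.Tits.Exchange Cfsg.Agent.Nodes.Comb Cfsg.Agent.Nodes.Reps Cfsg.Agent.Nodes.BNOf
  Cfsg.Agent.Nodes.StabComb
  Cfsg.Agent.Nodes.Bruhat Cfsg.Agent.Nodes.OppDec Cfsg.Agent.Nodes.PosPair Cfsg.Agent.Nodes.Coroot
  Cfsg.Agent.KFacts.RgdSL Cfsg.Agent.Omega.EH3Close.LeadU Cfsg.Agent.Omega.EH3Close.RgdLead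
  Cfsg.Agent.Omega.EH3Close.Roots
open scoped commutatorElement

/-! ### Groups of order 2 and of order > 2 -/

theorem eq_of_card_two {G : Type*} [Group G] {H : Subgroup G} (h2 : Nat.card H = 2) {u v : G} (hu : u ∈ H)
    (hv : v ∈ H) (hu1 : u ≠ 1) (hv1 : v ≠ 1) : u = v := by
  by_contra hne
  have hf : Finite H := Nat.finite_of_card_ne_zero (by rw [h2]; norm_num)
  have h3 : (⟨u, hu⟩ : H) ≠ ⟨v, hv⟩ := fun e => hne (congrArg Subtype.val e)
  have h4 : (⟨u, hu⟩ : H) ≠ 1 := fun e => hu1 (congrArg Subtype.val e)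
  have h5 : (⟨v, hv⟩ : H) ≠ 1 := fun e => hv1 (congrArg Subtype.val e)
  obtain ⟨a, b, hab, he⟩ := Nat.card_eq_two_iff.1 h2
  have m1 : ∀ c : H, c = a ∨ c = b := by
    intro c
    have : c ∈ ({a, b} : Set H) := by rw [he]; trivial
    simpa using this
  rcases m1 ⟨u, hu⟩ with e1 | e1 <;> rcases m1 ⟨v, hv⟩ with e2 | e2 <;> rcases m1 1 with e3 | e3
  · exact h3 (e1.trans e2.symm)
  · exact h3 (e1.trans e2.symm)
  · exact h4 (e1.trans e3.symm)
  · exact h5 (e2.trans e3.symm)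
  · exact h5 (e2.trans e3.symm)
  · exact h4 (e1.trans e3.symm)
  · exact h3 (e1.trans e2.symm)
  · exact h3 (e1.trans e2.symm)

/-- two nontrivial elements with a nontrivial product -/
theorem exists_two_of_card {G : Type*} [Group G] {H : Subgroup G} (h4 : Nat.card H = 4) :
    ∃ u ∈ H, ∃ v ∈ H, u ≠ 1 ∧ v ≠ 1 ∧ u * v ≠ 1 := by
  classical
  have hf : Finite H := Nat.finite_of_card_ne_zero (by rw [h4]; norm_num)
  have := Fintype.ofFinite H
  obtain ⟨u, hu⟩ : ∃ u : H, u ≠ 1 := by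
    by_contra hcon
    push Not at hcon
    have h1 : (Finset.univ : Finset H).card ≤ ({1} : Finset H).card :=
      Finset.card_le_card fun x _ => by rw [hcon x]; simp
    rw [Finset.card_univ, ← Nat.card_eq_fintype_card, h4] at h1
    simp at h1
  obtain ⟨v, hv1, hv2⟩ : ∃ v : H, v ≠ 1 ∧ v ≠ u⁻¹ := by
    by_contra hcon
    push Not at hcon
    have h1 : (Finset.univ : Finset H).card ≤ ({1, u⁻¹} : Finset H).card :=
      Finset.card_le_card fun x _ => by
        by_cases hx : x = 1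
        · rw [hx]; simp
        · rw [hcon x hx]; simp
    rw [Finset.card_univ, ← Nat.card_eq_fintype_card, h4] at h1
    have h2 : ({1, u⁻¹} : Finset H).card ≤ 2 := Finset.card_le_two
    omega
  refine ⟨u, u.2, v, v.2, fun e => hu (Subtype.ext e), fun e => hv1 (Subtype.ext e), fun e => hv2 ?_⟩
  have h1 : u * v = 1 := Subtype.ext e
  exact (inv_eq_of_mul_eq_one_right h1).symm

variable {W Y : Type*} [Group W] [Group Y] {cs : CoxeterSystem (CoxeterMatrix.B 3) W}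
  {h : IsCartan (CoxeterMatrix.B 3) AC3} {p : ℕ} {T : Subgroup Y} {n : Fin 3 → Y} {X : (Fin 3 → ℤ) → Subgroup Y}
  (R : RGD cs h p T n X)

include R

/-- the orders of the root groups -/
theorem card_X (hq : ∀ j, Nat.card (X (sr j)) = (![4, 4, 2] : Fin 3 → ℕ) j) {x : Fin 3 → ℤ} (hx : IsRoot cs h x) :
    Nat.card (X x) = if lg x then 2 else 4 := by
  obtain ⟨w, i, rfl⟩ := hx
  obtain ⟨g, hg⟩ := exists_rp cs R.nsys w
  rw [(lg_rep w _ (mem_AL (isRoot_sr cs h i))).2, ← R.conj_rp hg (isRoot_sr cs h i)]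
  have h1 : Nat.card (cj g (X (sr i))) = Nat.card (X (sr i)) := by
    unfold cj
    exact (Nat.card_congr ((X (sr i)).equivMapOfInjective _ (MulAut.conj g).injective).toEquiv).symm
  rw [h1, hq]
  have h2 : ∀ i : Fin 3, (![4, 4, 2] : Fin 3 → ℕ) i = if lg (sr i) then 2 else 4 := by decide +kernel
  exact h2 i

theorem card_long (hq : ∀ j, Nat.card (X (sr j)) = (![4, 4, 2] : Fin 3 → ℕ) j) {x : Fin 3 → ℤ} (hx : IsRoot cs h x)
    (hl : lg x = true) : Nat.card (X x) = 2 := by rw [card_X R hq hx, if_pos hl]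

theorem card_short (hq : ∀ j, Nat.card (X (sr j)) = (![4, 4, 2] : Fin 3 → ℕ) j) {x : Fin 3 → ℤ} (hx : IsRoot cs h x)
    (hl : lg x = false) : Nat.card (X x) = 4 := by rw [card_X R hq hx, if_neg (by rw [hl]; simp)]

theorem tor_mem {x : Fin 3 → ℤ} (hx : IsRoot cs h x) {t u : Y} (ht : t ∈ T) (hu : u ∈ X x) : t * u * t⁻¹ ∈ X x := by
  rw [← R.tor x hx t ht]
  exact conj_mem_cj.2 hu

/-- `T` centralises the root groups of order 2 -/
theorem tor_two {x : Fin 3 → ℤ} (hx : IsRoot cs h x) (h2 : Nat.card (X x) = 2) {t u : Y} (ht : t ∈ T) (hu : u ∈ X x) :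
    t * u * t⁻¹ = u := by
  by_cases hu1 : u = 1
  · rw [hu1]; group
  · refine eq_of_card_two h2 (tor_mem R hx ht hu) hu (fun e => hu1 ?_) hu1
    have : u = t⁻¹ * (t * u * t⁻¹) * t := by group
    rw [this, e]; group

/-- **`T` centralises the long root groups** -/
theorem tor_long (hq : ∀ j, Nat.card (X (sr j)) = (![4, 4, 2] : Fin 3 → ℕ) j) {x : Fin 3 → ℤ} (hx : IsRoot cs h x)
    (hl : lg x = true) {t u : Y} (ht : t ∈ T) (hu : u ∈ X x) : t * u * t⁻¹ = u :=
  tor_two R hx (card_long R hq hx hl) ht hu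

/-- **`T` is transitive on the nontrivial elements of a short root group** -/
theorem tor_short [Finite W] {x : Fin 3 → ℤ} (hx : IsRoot cs h x) (hl : lg x = false) {u v : Y} (hu : u ∈ X x)
    (hu1 : u ≠ 1) (hv : v ∈ X x) (hv1 : v ≠ 1) : ∃ t ∈ T, t * u * t⁻¹ = v := by
  obtain ⟨y, hA⟩ := exists_a2 hx hl
  obtain ⟨t, ht, he⟩ := A2.tor_trans R hA hu hu1 hv hv1
  exact ⟨t, ht.1, he⟩

/-- root groups are abelian -/
theorem comm_self' [Finite W] (hq : ∀ j, Nat.card (X (sr j)) = (![4, 4, 2] : Fin 3 → ℕ) j) {x : Fin 3 → ℤ}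
    (hx : IsRoot cs h x) : ∀ u ∈ X x, ∀ v ∈ X x, u * v = v * u := by
  intro u hu v hv
  by_cases hl : lg x = true
  · by_cases hu1 : u = 1
    · rw [hu1]; group
    by_cases hv1 : v = 1
    · rw [hv1]; group
    rw [eq_of_card_two (card_long R hq hx hl) hu hv hu1 hv1]
  · have h4 := card_short R hq hx (by simpa using hl)
    have : Fact (Nat.Prime 2) := ⟨Nat.prime_two⟩
    have h5 := IsPGroup.isMulCommutative_of_card_eq_prime_sq (p := 2) (G := X x) (by rw [h4]; norm_num)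
    have h6 := h5.is_comm.comm ⟨u, hu⟩ ⟨v, hv⟩
    exact congrArg Subtype.val h6

theorem exists_ne_one' {x : Fin 3 → ℤ} (hx : IsRoot cs h x) : ∃ u ∈ X x, u ≠ 1 := by
  have := X_ne_bot R hx
  rw [Subgroup.ne_bot_iff_exists_ne_one] at this
  obtain ⟨⟨a, ha⟩, h1⟩ := this
  exact ⟨a, ha, fun h2 => h1 (Subtype.ext h2)⟩

/-- **two long roots with a short root between them commute** -/
theorem long_orth [Finite W] (hq : ∀ j, Nat.card (X (sr j)) = (![4, 4, 2] : Fin 3 → ℕ) j) {x y z : Fin 3 → ℤ}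
    (hx : IsRoot cs h x) (hy : IsRoot cs h y) (hz : IsRoot cs h z) (hxy : x ≠ y) (hxy' : x ≠ -y) (lx : lg x = true)
    (ly : lg y = true) (lz : lg z = false) (hb : ∀ z', Btwn cs h x y z' → z' = z) {u v : Y} (hu : u ∈ X x)
    (hv : v ∈ X y) : u * v = v * u := by
  rw [← commutatorElement_eq_one_iff_mul_comm]
  by_contra hne
  have h1 : ⁅u, v⁆ ∈ X z := btw_le_of hb (R.comm x y hx hy hxy hxy' u hu v hv)
  have h2 : ∀ t ∈ T, t * ⁅u, v⁆ * t⁻¹ = ⁅u, v⁆ := by
    intro t ht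
    have e : t * ⁅u, v⁆ * t⁻¹ = ⁅t * u * t⁻¹, t * v * t⁻¹⁆ := by
      simp only [commutatorElement_def]; group
    rw [e, tor_long R hq hx lx ht hu, tor_long R hq hy ly ht hv]
  obtain ⟨a, ha, b, hb', ha1, hb1, hab⟩ := exists_two_of_card (card_short R hq hz lz)
  obtain ⟨t, ht, e1⟩ := tor_short R hz lz h1 hne ha ha1
  obtain ⟨t', ht', e2⟩ := tor_short R hz lz h1 hne hb' hb1
  obtain ⟨t'', ht'', e3⟩ := tor_short R hz lz h1 hne (mul_mem ha hb') hab
  rw [h2 t ht] at e1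
  rw [h2 t' ht'] at e2
  rw [h2 t'' ht''] at e3
  rw [← e1, ← e2] at e3
  exact hne (left_eq_mul.1 e3)

end Cfsg.Agent.Omega.EH3Close.CThree

end

section


/-!
# The row `C₃(4,4,2)`: orthogonal short root groups do not commute elementwise (helper40, fact (F4) of helper635)

`m` long, `x` short, `⟨m, x^∨⟩ = -2`, `⟨x, m^∨⟩ = -1` (so `m + x` is short and orthogonal to `x`, `m + 2x` is long).

* `Pl.no_btwn` .. : the roots of the plane;
* `eq_one_of_form` : `X m` meets the join of the root groups on the other side of a hyperplane trivially;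
* `exists_not_comm` : `T` centralises `X m` and `X (m + 2x)` and is transitive on the nontrivial elements of `X x`,
  `2 < |X x|`: every `1 ≠ u ∈ X x` moves some element of `X (m + x)`.
-/

set_option autoImplicit false
set_option linter.unusedSectionVars false

namespace Cfsg.Agent.Omega.EH3Close.CThree.Orth

open CoxeterSystem Cfsg.Agent.ChevalleyStructure.CoxeterGeom Cfsg.Agent.Tits.Roots Cfsg.Agent.Tits.Core
  Cfsg.Agent.Tits.RootComb Cfsg.Agent.Nodes.Comb Cfsg.Agent.Nodes.Reps Cfsg.Agent.Nodes.BNOf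
  Cfsg.Agent.Nodes.Bruhat Cfsg.Agent.Nodes.OppDec Cfsg.Agent.Nodes.PosPair Cfsg.Agent.Nodes.Coroot
  Cfsg.Agent.Nodes Cfsg.Agent.KFacts.RgdSL
open scoped commutatorElement

variable {I W Y : Type*} [Fintype I] [DecidableEq I] [Group W] [Group Y] {M : CoxeterMatrix I}
  {cs : CoxeterSystem M W} {A : I → I → ℤ} {h : IsCartan M A} {p : ℕ} {T : Subgroup Y} {n : I → Y}
  {X : (I → ℤ) → Subgroup Y}

/-! ### Roots (the structure `Sq` is the one of `Nodes/ShortSum.lean`) -/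

section Copy

variable [Fintype W]

/-- `x` is on the ray of `y₁ + y₂`, `b` on the ray of `y₂ - y₁`, where `y₁, y₂` are orthogonal of the same length. -/
structure Sq (cs : CoxeterSystem M W) (h : IsCartan M A) (m : ℤ) (y₁ y₂ x b : I → ℤ) : Prop where
  pos : 0 < m
  root₁ : IsRoot cs h y₁
  root₂ : IsRoot cs h y₂
  root : IsRoot cs h x
  rootb : IsRoot cs h b
  orth : form cs h y₁ y₂ = 0
  len : form cs h y₁ y₁ = form cs h y₂ y₂
  add : m • x = y₁ + y₂
  sub : m • b = y₂ - y₁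

namespace Sq

variable {m : ℤ} {y₁ y₂ x b : I → ℤ}

theorem of_add (hm : 0 < m) (h1 : IsRoot cs h y₁) (h2 : IsRoot cs h y₂) (hx : IsRoot cs h x)
    (ho : form cs h y₁ y₂ = 0) (hl : form cs h y₁ y₁ = form cs h y₂ y₂) (e : m • x = y₁ + y₂) :
    Sq cs h m y₁ y₂ x (x - cpr cs h x y₁ • y₁) := by
  refine ⟨hm, h1, h2, hx, isRoot_refl cs h hx h1, ho, hl, e, ?_⟩
  have h3 := two_form_cpr cs h x h1
  have h4 : m * form cs h x y₁ = form cs h y₁ y₁ := by
    rw [← form_smul_left, e, form_add_left, form_comm cs h y₂ y₁, ho, add_zero]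
  have h5 := form_pos cs h h1.ne_zero
  have h6 : m * cpr cs h x y₁ = 2 := by
    have : (m * cpr cs h x y₁) * form cs h y₁ y₁ = 2 * form cs h y₁ y₁ := by
      rw [mul_assoc, ← h3, mul_left_comm, h4]
    exact mul_right_cancel₀ h5.ne' this
  rw [smul_sub, e, smul_smul, h6]
  module

/-- The configuration `(-y₁, y₂, b, x)`. -/
theorem flip (S : Sq cs h m y₁ y₂ x b) : Sq cs h m (-y₁) y₂ b x where
  pos := S.pos
  root₁ := S.root₁.neg
  root₂ := S.root₂
  root := S.rootb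
  rootb := S.root
  orth := by rw [form_neg_left, S.orth, neg_zero]
  len := by rw [form_neg_left, form_neg_right, neg_neg, S.len]
  add := by rw [S.sub]; abel
  sub := by rw [S.add]; abel

theorem form_x₁ (S : Sq cs h m y₁ y₂ x b) : m * form cs h x y₁ = form cs h y₁ y₁ := by
  rw [← form_smul_left, S.add, form_add_left, form_comm cs h y₂ y₁, S.orth, add_zero]

theorem form_x₂ (S : Sq cs h m y₁ y₂ x b) : m * form cs h x y₂ = form cs h y₁ y₁ := by
  rw [← form_smul_left, S.add, form_add_left, S.orth, zero_add, S.len]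

theorem form_b₁ (S : Sq cs h m y₁ y₂ x b) : m * form cs h b y₁ = -form cs h y₁ y₁ := by
  rw [← form_smul_left, S.sub, form_sub_left, form_comm cs h y₂ y₁, S.orth, zero_sub]

theorem form_b₂ (S : Sq cs h m y₁ y₂ x b) : m * form cs h b y₂ = form cs h y₁ y₁ := by
  rw [← form_smul_left, S.sub, form_sub_left, S.orth, sub_zero, S.len]

theorem ypos (S : Sq cs h m y₁ y₂ x b) : 0 < form cs h y₁ y₁ := form_pos cs h S.root₁.ne_zero

theorem x₁_pos (S : Sq cs h m y₁ y₂ x b) : 0 < form cs h x y₁ :=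
  (pos_iff_pos_of_mul_pos (by rw [S.form_x₁]; exact S.ypos)).1 S.pos

theorem x₂_pos (S : Sq cs h m y₁ y₂ x b) : 0 < form cs h x y₂ :=
  (pos_iff_pos_of_mul_pos (by rw [S.form_x₂]; exact S.ypos)).1 S.pos

theorem b₂_pos (S : Sq cs h m y₁ y₂ x b) : 0 < form cs h b y₂ :=
  (pos_iff_pos_of_mul_pos (by rw [S.form_b₂]; exact S.ypos)).1 S.pos

theorem b₁_neg (S : Sq cs h m y₁ y₂ x b) : form cs h b y₁ < 0 := by
  have h1 : 0 < m * (-form cs h b y₁) := by
    rw [mul_neg, S.form_b₁, neg_neg]; exact S.ypos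
  have := (pos_iff_pos_of_mul_pos h1).1 S.pos
  omega

theorem xb (S : Sq cs h m y₁ y₂ x b) : form cs h x b = 0 := by
  have h1 : m * form cs h x b = 0 := by
    have h2 : m * (m * form cs h x b) = 0 := by
      rw [← form_smul_left, ← form_smul_right, S.add, S.sub, form_sub_right, form_add_left, form_add_left,
        form_comm cs h y₂ y₁, S.orth, S.len]
      ring
    exact (mul_eq_zero.1 h2).resolve_left S.pos.ne'
  exact (mul_eq_zero.1 h1).resolve_left S.pos.ne'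

/-- `s_{y₁} b = x` -/
theorem refl_b (S : Sq cs h m y₁ y₂ x b) : b - cpr cs h b y₁ • y₁ = x := by
  have h1 := two_form_cpr cs h b S.root₁
  have h2 : m * cpr cs h b y₁ = -2 := by
    have : (m * cpr cs h b y₁) * form cs h y₁ y₁ = (-2) * form cs h y₁ y₁ := by
      rw [mul_assoc, ← h1, mul_left_comm, S.form_b₁]; ring
    exact mul_right_cancel₀ S.ypos.ne' this
  have h3 : m • (b - cpr cs h b y₁ • y₁) = m • x := by
    rw [smul_sub, S.sub, smul_smul, h2, S.add]
    module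
  exact smul_right_injective _ S.pos.ne' h3

theorem ne_smul (S : Sq cs h m y₁ y₂ x b) {i j : ℤ} (e : i • y₁ = j • y₂) : i = 0 ∧ j = 0 := by
  have h1 : i * form cs h y₁ y₁ = 0 := by
    rw [← form_smul_left, e, form_smul_left, form_comm cs h y₂ y₁, S.orth, mul_zero]
  have h2 : j * form cs h y₂ y₂ = 0 := by
    rw [← form_smul_left, ← e, form_smul_left, S.orth, mul_zero]
  exact ⟨(mul_eq_zero.1 h1).resolve_right S.ypos.ne',
    (mul_eq_zero.1 h2).resolve_right (S.len ▸ S.ypos).ne'⟩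

/-- The coordinates of a root of the plane of `y₁, y₂`. -/
theorem coord (S : Sq cs h m y₁ y₂ x b) {w : I → ℤ} {e c d : ℤ} (he : 0 < e) (hw : e • w = c • y₁ + d • y₂) :
    (2 : ℤ) • w = cpr cs h w y₁ • y₁ + cpr cs h w y₂ • y₂ ∧ e * cpr cs h w y₁ = 2 * c ∧
      e * cpr cs h w y₂ = 2 * d := by
  have h1 := two_form_cpr cs h w S.root₁
  have h2 := two_form_cpr cs h w S.root₂
  have h3 : e * form cs h w y₁ = c * form cs h y₁ y₁ := by
    rw [← form_smul_left, hw, form_add_left, form_smul_left, form_smul_left, form_comm cs h y₂ y₁, S.orth,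
      mul_zero, add_zero]
  have h4 : e * form cs h w y₂ = d * form cs h y₂ y₂ := by
    rw [← form_smul_left, hw, form_add_left, form_smul_left, form_smul_left, S.orth, mul_zero, zero_add]
  have h5 : e * cpr cs h w y₁ = 2 * c := by
    have : (e * cpr cs h w y₁) * form cs h y₁ y₁ = (2 * c) * form cs h y₁ y₁ := by
      rw [mul_assoc, ← h1, mul_left_comm, h3]; ring
    exact mul_right_cancel₀ S.ypos.ne' this
  have h6 : e * cpr cs h w y₂ = 2 * d := by
    have : (e * cpr cs h w y₂) * form cs h y₂ y₂ = (2 * d) * form cs h y₂ y₂ := by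
      rw [mul_assoc, ← h2, mul_left_comm, h4]; ring
    exact mul_right_cancel₀ (S.len ▸ S.ypos).ne' this
  refine ⟨?_, h5, h6⟩
  refine smul_right_injective _ he.ne' ?_
  change e • ((2 : ℤ) • w) = e • (cpr cs h w y₁ • y₁ + cpr cs h w y₂ • y₂)
  rw [smul_add, smul_smul e (cpr cs h w y₁), smul_smul e (cpr cs h w y₂), h5, h6, smul_comm, hw]
  module

/-- The only root between `y₁` and `y₂` is `x`. -/
theorem btwn (S : Sq cs h m y₁ y₂ x b) {w : I → ℤ} (hw : Btwn cs h y₁ y₂ w) : w = x := by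
  obtain ⟨hwr, e, c, d, he, hc, hd, ew⟩ := hw
  obtain ⟨h1, h2, h3⟩ := S.coord he ew
  set i := cpr cs h w y₁ with hi
  set j := cpr cs h w y₂ with hj
  have hi0 : 0 < i := (pos_iff_pos_of_mul_pos (by rw [h2]; omega)).1 he
  have hj0 : 0 < j := (pos_iff_pos_of_mul_pos (by rw [h3]; omega)).1 he
  have f1 := two_form_cpr cs h w S.root₁
  have f2 := two_form_cpr cs h w S.root₂
  have g1 := two_form_cpr cs h y₁ hwr
  have g2 := two_form_cpr cs h y₂ hwr
  rw [form_comm cs h y₁ w] at g1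
  rw [form_comm cs h y₂ w] at g2
  rw [← hi] at f1
  rw [← hj, ← S.len] at f2
  set i' := cpr cs h y₁ w with hi'
  set j' := cpr cs h y₂ w with hj'
  have f3 : 4 * form cs h w w = (i * i + j * j) * form cs h y₁ y₁ := by
    have : 4 * form cs h w w = form cs h ((2 : ℤ) • w) ((2 : ℤ) • w) := by
      rw [form_smul_left, form_smul_right]; ring
    rw [this, h1, form_add_left, form_add_right, form_add_right, form_smul_left, form_smul_left, form_smul_left,
      form_smul_left, form_smul_right, form_smul_right, form_smul_right, form_smul_right, form_comm cs h y₂ y₁,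
      S.orth, ← S.len]
    ring
  have hy := S.ypos
  have hww := form_pos cs h hwr.ne_zero
  set Q := form cs h y₁ y₁ with hQ
  have k1 : i' * (i * i + j * j) = 4 * i := by
    have : (i' * (i * i + j * j)) * Q = (4 * i) * Q := by
      rw [mul_assoc, ← f3]
      have : i' * (4 * form cs h w w) = 4 * (i' * form cs h w w) := by ring
      rw [this, ← g1, f1]; ring
    exact mul_right_cancel₀ hy.ne' this
  have k2 : j' * (i * i + j * j) = 4 * j := by
    have : (j' * (i * i + j * j)) * Q = (4 * j) * Q := by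
      rw [mul_assoc, ← f3]
      have : j' * (4 * form cs h w w) = 4 * (j' * form cs h w w) := by ring
      rw [this, ← g2, f2]; ring
    exact mul_right_cancel₀ hy.ne' this
  have hN : 0 < i * i + j * j := by positivity
  have hi'0 : 0 < i' := by
    have : 0 < i' * (i * i + j * j) := by rw [k1]; omega
    exact (pos_iff_pos_of_mul_pos this).2 hN
  have hj'0 : 0 < j' := by
    have : 0 < j' * (i * i + j * j) := by rw [k2]; omega
    exact (pos_iff_pos_of_mul_pos this).2 hN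
  have b1 : i * i + j * j ≤ 4 * i := by nlinarith
  have b2 : i * i + j * j ≤ 4 * j := by nlinarith
  have hi4 : i < 4 := by nlinarith
  have hj4 : j < 4 := by nlinarith
  have hi'4 : i' ≤ 4 := by nlinarith
  have hij : i = j := by
    interval_cases i <;> interval_cases j <;> first | rfl | (exfalso; omega)
  refine Slope.eq_of_cross hwr S.root (c := 2) (d := i * m) two_pos (mul_pos hi0 S.pos) ?_
  rw [h1, ← hij, mul_smul, S.add, smul_add]

/-- The roots between `y₁` and `b` are `y₂` and `x`. -/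
theorem btwn' (S : Sq cs h m y₁ y₂ x b) {w : I → ℤ} (hw : Btwn cs h y₁ b w) : w = y₂ ∨ w = x := by
  obtain ⟨hwr, e, c, d, he, hc, hd, ew⟩ := hw
  have hm := S.pos
  have e1 : (m * e) • w = (m * c - d) • y₁ + d • y₂ := by
    rw [mul_smul, ew, smul_add, smul_smul, smul_comm m d b, S.sub]
    module
  obtain ⟨h1, h2, h3⟩ := S.coord (mul_pos hm he) e1
  have hj0 : 0 < cpr cs h w y₂ := (pos_iff_pos_of_mul_pos (by rw [h3]; omega)).1 (mul_pos hm he)
  rcases lt_trichotomy (cpr cs h w y₁) 0 with h4 | h4 | h4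
  · exfalso
    have h5 : Btwn cs h (-y₁) y₂ w := ⟨hwr, 2, -cpr cs h w y₁, cpr cs h w y₂, two_pos, by omega, hj0, by
      rw [h1]; module⟩
    have h6 := S.flip.btwn h5
    -- `w = b`
    have h7 : c * form cs h y₁ y₁ = (e - d) * form cs h b y₁ := by
      have h8 : c • y₁ = (e - d) • b := by
        rw [h6] at ew
        rw [sub_smul, ew]; abel
      rw [← form_smul_left, h8, form_smul_left]
    have h8 : (e - d) * form cs h b y₂ = 0 := by
      have h9 : c • y₁ = (e - d) • b := by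
        rw [h6] at ew
        rw [sub_smul, ew]; abel
      rw [← form_smul_left, ← h9, form_smul_left, S.orth, mul_zero]
    have h9 := (mul_eq_zero.1 h8).resolve_right S.b₂_pos.ne'
    rw [h9, zero_mul] at h7
    have := mul_pos hc S.ypos
    omega
  · left
    rw [h4, zero_smul, zero_add] at h1
    exact Slope.eq_of_cross hwr S.root₂ two_pos hj0 h1
  · right
    exact S.btwn ⟨hwr, 2, _, _, two_pos, h4, hj0, h1⟩

theorem ne₁ (S : Sq cs h m y₁ y₂ x b) : y₁ ≠ y₂ := by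
  intro e
  have := S.orth
  rw [← e] at this
  exact S.ypos.ne' this

theorem ne₂ (S : Sq cs h m y₁ y₂ x b) : y₁ ≠ -y₂ := by
  intro e
  have := S.orth
  have h1 : y₂ = -y₁ := by rw [e, neg_neg]
  rw [h1, form_neg_right] at this
  have := S.ypos
  omega

theorem ne_of_form {u v w : I → ℤ} (h1 : form cs h u w = 0) (h2 : form cs h v w ≠ 0) : u ≠ v ∧ u ≠ -v := by
  constructor
  · rintro rfl; exact h2 h1
  · rintro rfl
    rw [form_neg_left, neg_eq_zero] at h1
    exact h2 h1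

/-- `y₁ ≠ ± b` -/
theorem ne_b (S : Sq cs h m y₁ y₂ x b) : y₁ ≠ b ∧ y₁ ≠ -b := ne_of_form S.orth S.b₂_pos.ne'

theorem ne_x (S : Sq cs h m y₁ y₂ x b) : y₁ ≠ x ∧ y₁ ≠ -x := ne_of_form S.orth S.x₂_pos.ne'

/-- `y₂ ≠ ± b` -/
theorem ne_b₂ (S : Sq cs h m y₁ y₂ x b) : y₂ ≠ b ∧ y₂ ≠ -b :=
  ne_of_form (w := y₁) (by rw [form_comm]; exact S.orth) S.b₁_neg.ne

end Sq

/-! ### Groups -/

theorem btw_le {x y : I → ℤ} {K : Subgroup Y} (hK : ∀ w, Btwn cs h x y w → X w ≤ K) : btw cs h X x y ≤ K := by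
  unfold Reps.btw
  exact iSup_le fun ⟨w, hw⟩ => hK w hw

/-- Products of two commuting subgroups. -/
theorem mem_sup_of_cm {K L : Subgroup Y} (hc : ∀ a ∈ K, ∀ b ∈ L, a * b = b * a) {g : Y} (hg : g ∈ K ⊔ L) :
    ∃ a ∈ K, ∃ b ∈ L, g = a * b := by
  have h1 : K ≤ Subgroup.normalizer (L : Set Y) := fun a ha => by
    rw [Subgroup.mem_normalizer_iff]
    intro b
    constructor
    · intro hb
      rw [hc a ha b hb, mul_inv_cancel_right]
      exact hb
    · intro hb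
      have h2 : b = a⁻¹ * (a * b * a⁻¹) * a := by group
      rw [h2, hc a⁻¹ (inv_mem ha) _ hb, inv_mul_cancel_right]
      exact hb
  have h2 : g ∈ ((K ⊔ L : Subgroup Y) : Set Y) := hg
  rw [Subgroup.coe_mul_of_left_le_normalizer_right _ _ h1, Set.mem_mul] at h2
  obtain ⟨a, ha, b, hb, rfl⟩ := h2
  exact ⟨a, ha, b, hb, rfl⟩

end Copy

section Sq

variable [Fintype W] {m : ℤ} {y₁ y₂ x b : I → ℤ}

theorem swap (S : Sq cs h m y₁ y₂ x b) : Sq cs h m y₂ y₁ x (-b) where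
  pos := S.pos
  root₁ := S.root₂
  root₂ := S.root₁
  root := S.root
  rootb := S.rootb.neg
  orth := by rw [form_comm]; exact S.orth
  len := S.len.symm
  add := by rw [S.add, add_comm]
  sub := by rw [smul_neg, S.sub]; abel

/-- There is no root between `y₁` and `x`. -/
theorem no_btwn (S : Sq cs h m y₁ y₂ x b) {w : I → ℤ} (hw : Btwn cs h y₁ x w) : False := by
  obtain ⟨hwr, e, c, d, he, hc, hd, ew⟩ := hw
  have hm := S.pos
  have e1 : (m * e) • w = (m * c + d) • y₁ + d • y₂ := by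
    rw [mul_smul, ew, smul_add, smul_smul, smul_comm m d x, S.add]
    module
  have h1 := S.btwn ⟨hwr, m * e, m * c + d, d, mul_pos hm he, by positivity, hd, e1⟩
  subst h1
  have h2 : (e - d) • w = c • y₁ := by rw [sub_smul, ew]; abel
  have h3 : (e - d) * form cs h w y₂ = 0 := by
    rw [← form_smul_left, h2, form_smul_left, S.orth, mul_zero]
  have h4 := (mul_eq_zero.1 h3).resolve_right S.x₂_pos.ne'
  rw [h4, zero_smul] at h2
  exact S.root₁.ne_zero ((smul_eq_zero.1 h2.symm).resolve_left hc.ne')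

end Sq

/-- The plane of type `B₂`: `m` long, `x` short, at 135 degrees. -/
structure Pl (cs : CoxeterSystem M W) (h : IsCartan M A) (m x : I → ℤ) : Prop where
  rm : IsRoot cs h m
  rx : IsRoot cs h x
  cmx : cpr cs h m x = -2
  cxm : cpr cs h x m = -1

namespace Pl

variable [Finite W] {m x : I → ℤ} (P : Pl cs h m x)

include P

/-- `m + x` is a root. -/
theorem r1 : IsRoot cs h (m + x) := by
  have := isRoot_refl cs h P.rx P.rm
  rwa [P.cxm, neg_one_smul, sub_neg_eq_add, add_comm] at this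

/-- `m + 2x` is a root. -/
theorem r2 : IsRoot cs h (m + (2 : ℤ) • x) := by
  have := isRoot_refl cs h P.rm P.rx
  rwa [P.cmx, neg_smul, sub_neg_eq_add] at this

theorem c1 : cpr cs h (m + x) x = 0 := by
  rw [cpr_add cs h _ _ P.rx, P.cmx, cpr_self cs h P.rx]; norm_num

theorem sq [Fintype W] : Sq cs h 1 x (m + x) (m + (2 : ℤ) • x) m where
  pos := one_pos
  root₁ := P.rx
  root₂ := P.r1
  root := P.r2
  rootb := P.rm
  orth := by
    rw [form_comm]
    exact (cpr_zero_iff cs h (m + x) P.rx).1 P.c1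
  len := by
    have e1 := two_form_cpr cs h m P.rx
    have e2 := two_form_cpr cs h x P.rm
    rw [P.cmx] at e1
    rw [P.cxm, form_comm cs h x m] at e2
    rw [form_add_left, form_add_right, form_add_right, form_comm cs h x m]
    linarith
  add := by rw [one_smul, two_smul]; abel
  sub := by rw [one_smul]; abel

theorem neg_sq [Fintype W] : form cs h (m + (3 : ℤ) • x) m < 0 := by
  have e1 := two_form_cpr cs h m P.rx
  have e2 := two_form_cpr cs h x P.rm
  rw [P.cmx] at e1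
  rw [P.cxm, form_comm cs h x m] at e2
  have h1 := form_pos cs h P.rx.ne_zero
  rw [form_add_left, form_smul_left, form_comm cs h x m]
  linarith

theorem pos_sq1 [Fintype W] : 0 < form cs h (m + (3 : ℤ) • x) (m + x) := by
  have e1 := two_form_cpr cs h m P.rx
  have e2 := two_form_cpr cs h x P.rm
  rw [P.cmx] at e1
  rw [P.cxm, form_comm cs h x m] at e2
  have h1 := form_pos cs h P.rx.ne_zero
  rw [form_add_left, form_smul_left, form_add_right, form_add_right, form_comm cs h x m]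
  linarith

theorem pos_sq2 [Fintype W] : 0 < form cs h (m + (3 : ℤ) • x) (m + (2 : ℤ) • x) := by
  have e1 := two_form_cpr cs h m P.rx
  have e2 := two_form_cpr cs h x P.rm
  rw [P.cmx] at e1
  rw [P.cxm, form_comm cs h x m] at e2
  have h1 := form_pos cs h P.rx.ne_zero
  rw [form_add_left, form_smul_left, form_add_right, form_add_right, form_smul_right, form_smul_right,
    form_comm cs h x m]
  linarith

end Pl

/-! ### Groups -/

section Group

variable (R : RGD cs h p T n X)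

include R

/-- Root groups on different sides of a hyperplane. -/
theorem eq_one_of_form [Fintype W] {v m : I → ℤ} (hm : IsRoot cs h m) (hvm : form cs h v m < 0) {S : Set (I → ℤ)}
    (hS : ∀ z ∈ S, IsRoot cs h z ∧ 0 < form cs h v z) {g : Y} (hg : g ∈ X m) (hg' : g ∈ RGD.Sup X S) : g = 1 := by
  obtain ⟨w, hw⟩ := exists_dom_rep cs h v
  have hpos : ∀ z, IsRoot cs h z → 0 < form cs h v z → 0 ≤ rep cs h w z := by
    intro z hz hvz
    rcases (hz.act w).pos_or_neg with h3 | h3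
    · exact h3
    · exfalso
      have h4 := form_nonneg_of_dom cs h hw (neg_nonneg.2 h3)
      rw [form_neg_right, form_rep] at h4
      linarith
  obtain ⟨k, hk⟩ := exists_rp cs R.nsys w
  have h1 : cj k (RGD.Sup X S) ≤ RGD.Sup X (RGD.Pos cs h) := by
    rw [RGD.cj_Sup]
    refine iSup_le ?_
    rintro ⟨z, hz⟩
    rw [R.conj_rp hk (hS z hz).1]
    exact RGD.le_Sup (S := RGD.Pos cs h) ⟨(hS z hz).1.act w, hpos z (hS z hz).1 (hS z hz).2⟩
  have h2 : k * g * k⁻¹ ∈ RGD.Sup X (RGD.Pos cs h) := h1 (conj_mem_cj.2 hg')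
  have h3 : k * g * k⁻¹ ∈ X (rep cs h w m) := R.conj_mem hk hm hg
  have h4 : rep cs h w m ≤ 0 := by
    have := hpos (-m) hm.neg (by rw [form_neg_right]; linarith)
    rw [map_neg] at this
    exact neg_nonneg.1 this
  have h5 := eq_one_of_mem_U_of_mem_BN R h2 (X_le_BN (hm.act w) h4 h3)
  have : g = k⁻¹ * (k * g * k⁻¹) * k := by group
  rw [this, h5]; group

/-! ### The fact (F4) -/

variable [Finite W] {m x : I → ℤ} (P : Pl cs h m x)

include P

/-- The contradiction. -/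
theorem false_of (hTm : ∀ t ∈ T, ∀ v ∈ X m, t * v = v * t)
    (hTz : ∀ t ∈ T, ∀ v ∈ X (m + (2 : ℤ) • x), t * v = v * t)
    (hTx : ∀ u ∈ X x, u ≠ 1 → ∀ u' ∈ X x, u' ≠ 1 → ∃ t ∈ T, t * u * t⁻¹ = u')
    (h3 : 2 < Nat.card (X x)) {u₀ : Y} (hu₀ : u₀ ∈ X x) (hu1 : u₀ ≠ 1)
    (hcom : ∀ c ∈ X (m + x), u₀ * c = c * u₀) : False := by
  have := Fintype.ofFinite W
  have S := P.sq
  have r1 := P.r1
  have r2 := P.r2
  -- `X x` centralises `X (m + x)`
  have hA : ∀ u ∈ X x, ∀ c ∈ X (m + x), u * c = c * u := by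
    intro u hu c hc
    by_cases h0 : u = 1
    · rw [h0, one_mul, mul_one]
    obtain ⟨t, ht, rfl⟩ := hTx u₀ hu₀ hu1 u hu h0
    have h1 : t⁻¹ * c * t ∈ X (m + x) := by
      have h2 : cj t⁻¹ (X (m + x)) = X (m + x) := R.tor _ r1 _ (inv_mem ht)
      rw [← h2]
      have := conj_mem_cj (g := t⁻¹).2 hc
      rwa [inv_inv] at this
    have h2 := hcom _ h1
    calc t * u₀ * t⁻¹ * c = t * (u₀ * (t⁻¹ * c * t)) * t⁻¹ := by group
      _ = t * (t⁻¹ * c * t * u₀) * t⁻¹ := by rw [h2]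
      _ = c * (t * u₀ * t⁻¹) := by group
  obtain ⟨s, hs, a, ha, b, hb, μ, hμ, he⟩ := exists_mu R P.rx hu₀ hu1
  -- `X (-x)` centralises `X (m + x)`
  have sx : rep cs h s⁻¹ (-x) = x := by
    have h1 : rep cs h s x = -x := by rw [hs, cpr_self cs h P.rx]; module
    rw [← h1, rep_inv_apply]
  have s1 : rep cs h s⁻¹ (m + x) = m + x := by
    have h1 : rep cs h s (m + x) = m + x := by rw [hs, P.c1, zero_smul, sub_zero]
    conv_lhs => rw [← h1]
    rw [rep_inv_apply]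
  have hB : ∀ u ∈ X (-x), ∀ c ∈ X (m + x), u * c = c * u := by
    intro u hu c hc
    have h1 : μ⁻¹ * u * μ ∈ X x := by
      have := R.conj_mem' hμ P.rx.neg hu
      rwa [sx] at this
    have h2 : μ⁻¹ * c * μ ∈ X (m + x) := by
      have := R.conj_mem' hμ r1 hc
      rwa [s1] at this
    have h3 := hA _ h1 _ h2
    calc u * c = μ * ((μ⁻¹ * u * μ) * (μ⁻¹ * c * μ)) * μ⁻¹ := by group
      _ = μ * ((μ⁻¹ * c * μ) * (μ⁻¹ * u * μ)) * μ⁻¹ := by rw [h3]
      _ = c * u := by group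
  -- commuting root groups
  have ne_of : ∀ {y z w : I → ℤ}, form cs h y w < form cs h z w → y ≠ z := by
    rintro y z w h0 rfl; exact lt_irrefl _ h0
  have cmz : ∀ c ∈ X (m + x), ∀ d ∈ X (m + (2 : ℤ) • x), c * d = d * c := fun c hc d hd =>
    comm_of_not_btwn R r1 r2 (swap S).ne_x.1 (swap S).ne_x.2 (fun z hz => no_btwn (swap S) hz) hc hd
  have cxz : ∀ u ∈ X x, ∀ d ∈ X (m + (2 : ℤ) • x), u * d = d * u := fun u hu d hd =>
    comm_of_not_btwn R P.rx r2 S.ne_x.1 S.ne_x.2 (fun z hz => no_btwn S hz) hu hd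
  have cnm : ∀ u ∈ X (-x), ∀ v ∈ X m, u * v = v * u := fun u hu v hv =>
    comm_of_not_btwn R P.rx.neg P.rm S.flip.ne_x.1 S.flip.ne_x.2 (fun z hz => no_btwn S.flip hz) hu hv
  have hdis : X (m + x) ⊓ X (m + (2 : ℤ) • x) = ⊥ := X_inf_X R r1 r2 (swap S).ne_x.1
  obtain ⟨v, hv, hv1⟩ : ∃ v ∈ X m, v ≠ 1 := by
    have := X_ne_bot R P.rm
    rw [Subgroup.ne_bot_iff_exists_ne_one] at this
    obtain ⟨⟨v, hv⟩, h1⟩ := this
    exact ⟨v, hv, fun h2 => h1 (Subtype.ext h2)⟩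
  -- the decomposition
  have dec : ∀ u ∈ X x, ∃ c ∈ X (m + x), ∃ d ∈ X (m + (2 : ℤ) • x), ⁅v, u⁆ = c * d := by
    intro u hu
    have h1 := R.comm m x P.rm P.rx S.ne_b.1.symm (fun h0 => S.ne_b.2 (by rw [h0, neg_neg])) v hv u hu
    have h2 : btw cs h X m x ≤ X (m + x) ⊔ X (m + (2 : ℤ) • x) := by
      refine btw_le fun w hw => ?_
      rcases S.btwn' hw.symm with rfl | rfl
      · exact le_sup_left
      · exact le_sup_right
    exact mem_sup_of_cm cmz (h2 h1)
  have uni : ∀ c ∈ X (m + x), ∀ d ∈ X (m + (2 : ℤ) • x), ∀ c' ∈ X (m + x), ∀ d' ∈ X (m + (2 : ℤ) • x),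
      c * d = c' * d' → d = d' := by
    intro c hc d hd c' hc' d' hd' e
    have h1 : c'⁻¹ * c = d' * d⁻¹ := by
      calc c'⁻¹ * c = c'⁻¹ * (c * d) * d⁻¹ := by group
        _ = c'⁻¹ * (c' * d') * d⁻¹ := by rw [e]
        _ = d' * d⁻¹ := by group
    have h2a : d' * d⁻¹ ∈ X (m + x) := by
      rw [← h1]; exact mul_mem (inv_mem hc') hc
    have h2 : d' * d⁻¹ ∈ X (m + x) ⊓ X (m + (2 : ℤ) • x) := Subgroup.mem_inf.2 ⟨h2a, mul_mem hd' (inv_mem hd)⟩
    rw [hdis, Subgroup.mem_bot, mul_inv_eq_one] at h2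
    exact h2.symm
  obtain ⟨c₀, hc₀, δ, hδ, e₀⟩ := dec u₀ hu₀
  have all : ∀ u ∈ X x, u ≠ 1 → ∃ c ∈ X (m + x), ⁅v, u⁆ = c * δ := by
    intro u hu h0
    obtain ⟨t, ht, rfl⟩ := hTx u₀ hu₀ hu1 u hu h0
    refine ⟨t * c₀ * t⁻¹, ?_, ?_⟩
    · have h2 : cj t (X (m + x)) = X (m + x) := R.tor _ r1 _ ht
      rw [← h2]
      exact conj_mem_cj.2 hc₀
    · have h1 : t * v * t⁻¹ = v := by rw [hTm t ht v hv]; group
      have h2 : t * δ * t⁻¹ = δ := by rw [hTz t ht δ hδ]; group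
      calc ⁅v, t * u₀ * t⁻¹⁆ = ⁅t * v * t⁻¹, t * u₀ * t⁻¹⁆ := by rw [h1]
        _ = t * ⁅v, u₀⁆ * t⁻¹ := by rw [commutatorElement_def, commutatorElement_def]; group
        _ = (t * c₀ * t⁻¹) * (t * δ * t⁻¹) := by rw [e₀]; group
        _ = _ := by rw [h2]
  -- `δ = 1`
  obtain ⟨u₁, hu₁, h10, h11⟩ : ∃ u ∈ X x, u ≠ 1 ∧ u₀ * u ≠ 1 := by
    by_contra hcon
    push Not at hcon
    have h4 : ∀ u : X x, u = 1 ∨ u = ⟨u₀⁻¹, inv_mem hu₀⟩ := by
      intro u
      by_cases h0 : (u : Y) = 1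
      · exact Or.inl (Subtype.ext h0)
      · right
        exact Subtype.ext (eq_inv_of_mul_eq_one_right (hcon u u.2 h0))
    have h5 : Nat.card (X x) ≤ 2 := by
      have h6 : Function.Surjective (fun i : Fin 2 => if i = 0 then (1 : X x) else ⟨u₀⁻¹, inv_mem hu₀⟩) := by
        intro u
        rcases h4 u with rfl | rfl
        · exact ⟨0, rfl⟩
        · exact ⟨1, rfl⟩
      have h7 := Nat.card_le_card_of_surjective _ h6
      have h8 : Nat.card (Fin 2) = 2 := by simp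
      rwa [h8] at h7
    omega
  obtain ⟨c₁, hc₁, e₁⟩ := all u₁ hu₁ h10
  obtain ⟨c₂, hc₂, e₂⟩ := all _ (mul_mem hu₀ hu₁) h11
  have hδ1 : δ = 1 := by
    have h4 : ⁅v, u₀ * u₁⁆ = (c₀ * c₁) * (δ * δ) := by
      have h5 : ⁅v, u₀ * u₁⁆ = ⁅v, u₀⁆ * (u₀ * ⁅v, u₁⁆ * u₀⁻¹) := by
        rw [commutatorElement_def, commutatorElement_def, commutatorElement_def]; group
      have h6 : u₀ * (c₁ * δ) * u₀⁻¹ = c₁ * δ := by
        rw [← mul_assoc, hA _ hu₀ _ hc₁, mul_assoc c₁, cxz _ hu₀ _ hδ]; group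
      rw [h5, e₁, h6, e₀]
      calc c₀ * δ * (c₁ * δ) = c₀ * (δ * c₁) * δ := by group
        _ = c₀ * (c₁ * δ) * δ := by rw [cmz _ hc₁ _ hδ]
        _ = _ := by group
    have h7 := uni _ (mul_mem hc₀ hc₁) _ (mul_mem hδ hδ) _ hc₂ _ hδ (by rw [← h4, e₂])
    exact left_eq_mul.1 h7.symm
  -- the end
  rw [hδ1, mul_one] at e₀
  have sm : rep cs h s m = m + (2 : ℤ) • x := by rw [hs, P.cmx]; module
  have h4 : μ * v * μ⁻¹ ∈ X (m + (2 : ℤ) • x) := by
    have := R.conj_mem hμ P.rm hv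
    rwa [sm] at this
  have h5 : μ * v * μ⁻¹ = c₀⁻¹ * v := by
    have h6 : b * v * b⁻¹ = v := by rw [cnm b hb v hv]; group
    have h7 : u₀ * v * u₀⁻¹ = c₀⁻¹ * v := by
      rw [← e₀, commutatorElement_inv, commutatorElement_def]; group
    have h8 : a * (c₀⁻¹ * v) * a⁻¹ = c₀⁻¹ * v := by
      rw [← mul_assoc, hB a ha _ (inv_mem hc₀), mul_assoc _ a, cnm a ha v hv]; group
    calc μ * v * μ⁻¹ = a * (u₀ * (b * v * b⁻¹) * u₀⁻¹) * a⁻¹ := by rw [he]; group
      _ = c₀⁻¹ * v := by rw [h6, h7, h8]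
  apply hv1
  refine eq_one_of_form R (v := m + (3 : ℤ) • x) (m := m) P.rm P.neg_sq
    (S := {z | z = m + x ∨ z = m + (2 : ℤ) • x}) ?_ hv ?_
  · rintro z (rfl | rfl)
    · exact ⟨r1, P.pos_sq1⟩
    · exact ⟨r2, P.pos_sq2⟩
  · have h9 : v = c₀ * (μ * v * μ⁻¹) := by rw [h5]; group
    rw [h9]
    exact mul_mem (RGD.le_Sup (S := {z | z = m + x ∨ z = m + (2 : ℤ) • x}) (Or.inl rfl) hc₀)
      (RGD.le_Sup (S := {z | z = m + x ∨ z = m + (2 : ℤ) • x}) (Or.inr rfl) h4)

/-- **(F4)** -/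
theorem exists_not_comm (hTm : ∀ t ∈ T, ∀ v ∈ X m, t * v = v * t)
    (hTz : ∀ t ∈ T, ∀ v ∈ X (m + (2 : ℤ) • x), t * v = v * t)
    (hTx : ∀ u ∈ X x, u ≠ 1 → ∀ u' ∈ X x, u' ≠ 1 → ∃ t ∈ T, t * u * t⁻¹ = u')
    (h3 : 2 < Nat.card (X x)) {u : Y} (hu : u ∈ X x) (hu1 : u ≠ 1) : ∃ c ∈ X (m + x), u * c ≠ c * u := by
  by_contra hcon
  push Not at hcon
  exact false_of R P hTm hTz hTx h3 hu hu1 hcon

end Group

end Cfsg.Agent.Omega.EH3Close.CThree.Orth

end

end
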